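import Cfsg.Agent.H272.Hall.Frame

/-!
# S2223: `TQ (t i) (Q i) (Kt ρ (t i))` for frames (helper272)
-/

set_option autoImplicit false
set_option linter.unusedSectionVars false

namespace Cfsg.Agent.H272.Hall

open Subgroup Cfsg.Agent.Cit Cfsg.Agent.H125.Hall

variable {k : Type*} [Field k] {V : Type*} [AddCommGroup V] [Module k V] [FiniteDimensional k V]
  {A : Type*} [Group A] {ρ : A →* (V →ₗ[k] V)}

/-- The determinant of an involution. -/
theorem det_mv (h2 : (2 : k) ≠ 0) {t : A} (ht : t * t = 1) :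
    LinearMap.det (ρ t) = (-1) ^ Module.finrank k ↥(mv ρ t) := by
  have hcompl : IsCompl (LinearMap.ker (ρ t - 1)) (mv ρ t) := by
    constructor
    · rw [disjoint_iff, eq_bot_iff]
      rintro v ⟨hv1, hv2⟩
      rw [SetLike.mem_coe, LinearMap.mem_ker, LinearMap.sub_apply, Module.End.one_apply, sub_eq_zero] at hv1
      have e1 := (mem_mv h2 ht).1 hv2
      rw [hv1] at e1
      have e3 : (2 : k) • v = 0 := by
        rw [two_smul]
        nth_rewrite 2 [e1]
        exact add_neg_cancel v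
      exact (smul_eq_zero.1 e3).resolve_left h2
    · rw [codisjoint_iff, eq_top_iff]
      intro v _
      have e1 : v = (2 : k)⁻¹ • (v + ρ t v) + (2 : k)⁻¹ • (v - ρ t v) := by
        rw [← smul_add, add_add_sub_cancel, ← two_smul k, smul_smul, inv_mul_cancel₀ h2, one_smul]
      rw [e1]
      apply Submodule.add_mem_sup
      · apply Submodule.smul_mem
        rw [LinearMap.mem_ker, LinearMap.sub_apply, Module.End.one_apply, sub_eq_zero, map_add, ← rho_mul, ht, rho_one,
          add_comm]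
      · apply Submodule.smul_mem
        rw [mem_mv h2 ht, map_sub, ← rho_mul, ht, rho_one, neg_sub]
  let e := Submodule.prodEquivOfIsCompl (LinearMap.ker (ρ t - 1)) (mv ρ t) hcompl
  have h1 : ρ t = (e : (LinearMap.ker (ρ t - 1) × mv ρ t) →ₗ[k] V) ∘ₗ
      (LinearMap.prodMap (LinearMap.id : LinearMap.ker (ρ t - 1) →ₗ[k] LinearMap.ker (ρ t - 1))
        ((-1 : k) • (LinearMap.id : mv ρ t →ₗ[k] mv ρ t))) ∘ₗ
      (e.symm : V →ₗ[k] (LinearMap.ker (ρ t - 1) × mv ρ t)) := by
    refine LinearMap.ext fun v => ?_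
    obtain ⟨p, rfl⟩ := e.surjective v
    rw [LinearMap.comp_apply, LinearMap.comp_apply, LinearEquiv.coe_coe, LinearEquiv.coe_coe, e.symm_apply_apply]
    obtain ⟨a, b⟩ := p
    rw [LinearMap.prodMap_apply]
    simp only [LinearMap.id_apply, LinearMap.smul_apply, e, Submodule.coe_prodEquivOfIsCompl']
    have ha := a.2
    rw [LinearMap.mem_ker, LinearMap.sub_apply, Module.End.one_apply, sub_eq_zero] at ha
    rw [map_add, ha, (mem_mv h2 ht).1 b.2]
    simp
  have h3 : LinearMap.det (ρ t) = LinearMap.det (LinearMap.prodMap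
      (LinearMap.id : LinearMap.ker (ρ t - 1) →ₗ[k] LinearMap.ker (ρ t - 1))
      ((-1 : k) • (LinearMap.id : mv ρ t →ₗ[k] mv ρ t))) := by
    conv_lhs => rw [h1]
    exact LinearMap.det_conj _ e
  rw [h3, LinearMap.det_prodMap, LinearMap.det_id, one_mul, LinearMap.det_smul, LinearMap.det_id, mul_one]

variable {S : Sylow 2 A} {ι : Type*} {t : ι → A} {Q : ι → Subgroup A} {V0 : Submodule k V}

theorem tq (h : Fr ρ S t Q V0) (i : ι) : TQ (t i) (Q i) (Kt ρ (t i)) where
  isQ := h.isQ i
  le := h.QK i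
  mem := h.mem i
  ord := h.ord i
  uniq := by
    intro x hx hxo
    obtain ⟨hx1, hx2⟩ : x * t i = t i * x ∧ ∀ v, ρ (t i) v = v → ρ x v = v := hx
    have hxx : x * x = 1 := by
      have := pow_orderOf_eq_one x
      rwa [hxo, pow_two] at this
    have ht := tt h i
    have hdec : ∀ v : V, v = (2 : k)⁻¹ • (v + ρ (t i) v) + (2 : k)⁻¹ • (v - ρ (t i) v) := by
      intro v
      rw [← smul_add, add_add_sub_cancel, ← two_smul k, smul_smul, inv_mul_cancel₀ h.two, one_smul]
    have hfix : ∀ v : V, ρ (t i) (v + ρ (t i) v) = v + ρ (t i) v := by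
      intro v
      rw [map_add, ← rho_mul, ht, rho_one, add_comm]
    have hmem : ∀ v : V, v - ρ (t i) v ∈ mv ρ (t i) := by
      intro v
      rw [mem_mv h.two ht, map_sub, ← rho_mul, ht, rho_one, neg_sub]
    have hle : mv ρ x ≤ mv ρ (t i) := by
      rintro _ ⟨v, rfl⟩
      have e1 : (ρ x - 1) v = (2 : k)⁻¹ • (ρ x (v - ρ (t i) v) - (v - ρ (t i) v)) := by
        rw [LinearMap.sub_apply, Module.End.one_apply]
        obtain ⟨a, ha⟩ : ∃ a, a = v + ρ (t i) v := ⟨_, rfl⟩
        obtain ⟨b, hb⟩ : ∃ b, b = v - ρ (t i) v := ⟨_, rfl⟩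
        have hv := hdec v
        have hxa := hx2 _ (hfix v)
        rw [← ha] at hxa hv
        rw [← hb] at hv ⊢
        have e2 : ρ x v = (2 : k)⁻¹ • a + (2 : k)⁻¹ • ρ x b := by
          rw [hv, map_add, map_smul, map_smul, hxa]
        rw [e2, smul_sub]
        rw [hv]
        abel
      rw [e1]
      exact Submodule.smul_mem _ _ (Submodule.sub_mem _ (mv_inv hx1 _ (hmem v)) (hmem v))
    have h1 := Submodule.finrank_mono hle
    rw [h.dim i] at h1
    have h2 := det_mv (ρ := ρ) h.two hxx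
    rw [h.det x] at h2
    have h3 : Module.finrank k ↥(mv ρ x) ≠ 0 := by
      intro h3
      have h4 : mv ρ x = ⊥ := Submodule.finrank_eq_zero.1 h3
      have h5 : x = 1 := by
        apply h.inj
        apply LinearMap.ext
        intro v
        have h6 := sub_mem_mv ρ x v
        rw [h4, Submodule.mem_bot, sub_eq_zero] at h6
        rw [h6, rho_one]
      rw [h5, orderOf_one] at hxo
      omega
    have h4 : Module.finrank k ↥(mv ρ x) ≠ 1 := by
      intro h4
      rw [h4, pow_one] at h2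
      apply h.two
      linear_combination h2
    have h5 : mv ρ x = mv ρ (t i) := by
      apply Submodule.eq_of_le_of_finrank_eq hle
      rw [h.dim i]
      omega
    apply h.inj
    apply LinearMap.ext
    intro v
    have e1 : ρ x (v - ρ (t i) v) = ρ (t i) (v - ρ (t i) v) := by
      rw [(mem_mv h.two ht).1 (hmem v)]
      have h6 := hmem v
      rw [← h5] at h6
      exact (mem_mv h.two hxx).1 h6
    rw [hdec v, map_add, map_add, map_smul, map_smul, map_smul, map_smul, e1, hx2 _ (hfix v), hfix v]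
  norm := by
    rintro x hx y ⟨hy1, hy2⟩
    refine ⟨?_, fun v hv => ?_⟩
    · have e1 : x⁻¹ * t i = t i * x⁻¹ := by
        rw [inv_mul_eq_iff_eq_mul, ← mul_assoc, hx, mul_inv_cancel_right]
      calc x * y * x⁻¹ * t i = x * (y * (x⁻¹ * t i)) := by group
        _ = x * ((y * t i) * x⁻¹) := by rw [e1]; group
        _ = (x * t i) * y * x⁻¹ := by rw [hy1]; group
        _ = t i * (x * y * x⁻¹) := by rw [hx]; group
    · have e1 : x⁻¹ * t i = t i * x⁻¹ := by
        rw [inv_mul_eq_iff_eq_mul, ← mul_assoc, hx, mul_inv_cancel_right]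
      have e2 : ρ (t i) (ρ x⁻¹ v) = ρ x⁻¹ v := by
        rw [← rho_mul, ← e1, rho_mul, hv]
      rw [rho_mul, rho_mul, hy2 _ e2, rho_inv']

end Cfsg.Agent.H272.Hall
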