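import Cfsg.Agent.H272.Hall.Lin

/-!
# S2223, C2: frames (helper272)

* `tr_Q` : `t` is a commutator of two elements of `Q`; `irrQ` : `Q i` is irreducible on `U_i`;
* `fix_of_ne` : `t j` is trivial on `U_i`;
* `finrank_sup` : the dimension of `⨆_{i ∈ s} U_i ⊔ W`, `W ≤ V0`.
-/

set_option autoImplicit false
set_option linter.unusedSectionVars false

namespace Cfsg.Agent.H272.Hall

open Subgroup Cfsg.Agent.Cit Cfsg.Agent.H125.Hall

variable {k : Type*} [Field k] {V : Type*} [AddCommGroup V] [Module k V] [FiniteDimensional k V]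
  {A : Type*} [Group A] {ρ : A →* (V →ₗ[k] V)}

/-- in a generalized quaternion group the involution is a commutator -/
theorem exists_comm {Q : Subgroup A} (h : AutQuat.IsQ Q) {t : A} (ht : t ∈ Q) (ho : orderOf t = 2) :
    ∃ x ∈ Q, ∃ y ∈ Q, y * x = t * (x * y) := by
  obtain ⟨z, -, -, hz⟩ := h.exists_inv
  obtain ⟨x, hx, hx4⟩ := h.exists_four
  obtain ⟨y, hy, hyx⟩ := h.exists_inverts x hx
  refine ⟨x, hx, y, hy, ?_⟩
  have h1 : orderOf (x * x) = 2 := by
    rw [← pow_two, orderOf_pow' x two_ne_zero, hx4]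
    norm_num
  have h2 : x * x = t := by rw [hz _ (mul_mem hx hx) h1, hz _ ht ho]
  have h3 : x⁻¹ = t * x := by
    rw [← h2]
    have h4 : x * x * x * x = 1 := by
      have := pow_orderOf_eq_one x
      rw [hx4] at this
      rw [← this]
      simp only [pow_succ, pow_zero, one_mul]
    calc x⁻¹ = x⁻¹ * (x * x * x * x) := by rw [h4, mul_one]
      _ = x * x * x := by group
  have h5 : y * x * y⁻¹ * y = t * x * y := by rw [hyx, h3]
  rw [inv_mul_cancel_right] at h5
  rw [h5, mul_assoc]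

/-- no one-dimensional invariant subspaces -/
theorem eq_bot_of_one (h2 : (2 : k) ≠ 0) {Q : Subgroup A} (h : AutQuat.IsQ Q) {t : A} (ht : t ∈ Q) (ho : orderOf t = 2)
    {W : Submodule k V} (hW : W ≤ mv ρ t) (hQ : ∀ a ∈ Q, ∃ c : k, ∀ v ∈ W, ρ a v = c • v) : W = ⊥ := by
  obtain ⟨x, hx, y, hy, e⟩ := exists_comm h ht ho
  obtain ⟨a, ha⟩ := hQ x hx
  obtain ⟨b, hb⟩ := hQ y hy
  have htt : t * t = 1 := by
    have := pow_orderOf_eq_one t
    rwa [ho, pow_two] at this
  rw [eq_bot_iff]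
  intro v hv
  have e1 : ρ (y * x) v = (b * a) • v := by
    rw [rho_mul, ha v hv, map_smul, hb v hv, smul_smul, mul_comm]
  have e2 : ρ (t * (x * y)) v = -((b * a) • v) := by
    rw [rho_mul, rho_mul, hb v hv, map_smul, ha v hv, smul_smul]
    exact (mem_mv h2 htt).1 (hW (Submodule.smul_mem _ _ hv))
  rw [e, e2] at e1
  have e3 : (2 * (b * a)) • v = 0 := by
    have e4 : (b * a) • v + (b * a) • v = 0 := by
      nth_rewrite 1 [← e1]
      exact neg_add_cancel _
    rw [mul_smul, two_smul]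
    exact e4
  rcases smul_eq_zero.1 e3 with h5 | h5
  · rcases mul_eq_zero.1 h5 with h6 | h6
    · exact absurd h6 h2
    · have e5 : ρ (y * x) v = 0 := by
        rw [e, e2, h6, zero_smul, neg_zero]
      have e6 : v = 0 := rho_injective ρ (y * x) (by rw [e5, map_zero])
      rw [e6]
      exact Submodule.zero_mem _
  · rw [h5]
    exact Submodule.zero_mem _

/-- a subspace of dimension one is a space of eigenvectors -/
theorem scalar_of_one {W : Submodule k V} (h1 : Module.finrank k W ≤ 1) {f : V →ₗ[k] V} (hf : ∀ v ∈ W, f v ∈ W) :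
    ∃ c : k, ∀ v ∈ W, f v = c • v := by
  obtain ⟨v, hv⟩ := finrank_le_one_iff.1 h1
  obtain ⟨c, hc⟩ := hv ⟨f v, hf v v.2⟩
  refine ⟨c, fun w hw => ?_⟩
  obtain ⟨d, hd⟩ := hv ⟨w, hw⟩
  have e1 : d • (v : V) = w := congrArg Subtype.val hd
  have e2 : c • (v : V) = f v := congrArg Subtype.val hc
  rw [← e1, map_smul, ← e2, smul_comm]

section Frame

variable {S : Sylow 2 A} {ι : Type*} {t : ι → A} {Q : ι → Subgroup A} {V0 : Submodule k V}

theorem tt (h : Fr ρ S t Q V0) (i : ι) : t i * t i = 1 := by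
  have := pow_orderOf_eq_one (t i)
  rwa [h.ord i, pow_two] at this

/-- `Q i` is irreducible on `U_i` -/
theorem irrQ (h : Fr ρ S t Q V0) (i : ι) {W : Submodule k V} (hW : W ≤ mv ρ (t i))
    (hQ : ∀ a ∈ Q i, ∀ v ∈ W, ρ a v ∈ W) : W = ⊥ ∨ W = mv ρ (t i) := by
  have h1 := Submodule.finrank_mono hW
  rw [h.dim i] at h1
  rcases Nat.lt_or_ge (Module.finrank k W) 2 with h2 | h2
  · left
    exact eq_bot_of_one h.two (h.isQ i) (h.mem i) (h.ord i) hW fun a ha => scalar_of_one (by omega) (hQ a ha)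
  · right
    apply Submodule.eq_of_le_of_finrank_eq hW
    rw [h.dim i]
    omega

theorem mv_inv {x y : A} (hxy : x * y = y * x) : ∀ v ∈ mv ρ y, ρ x v ∈ mv ρ y := by
  rintro _ ⟨v, rfl⟩
  refine ⟨ρ x v, ?_⟩
  rw [LinearMap.sub_apply, LinearMap.sub_apply, Module.End.one_apply, Module.End.one_apply, map_sub, ← rho_mul,
    ← rho_mul, hxy]

theorem fix_of_ne [IsAlgClosed k] (h : Fr ρ S t Q V0) {i j : ι} (hij : i ≠ j) : ∀ v ∈ mv ρ (t i), ρ (t j) v = v := by
  have hQt : ∀ a ∈ Q i, a * t i = t i * a := fun a ha => (h.QK i ha).1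
  have hQt' : ∀ a ∈ Q i, a * t j = t j * a := fun a ha => h.comm i j hij a ha (t j) (h.mem j)
  have hinv : ∀ a ∈ Q i, ∀ v ∈ mv ρ (t i) ⊓ mv ρ (t j), ρ a v ∈ mv ρ (t i) ⊓ mv ρ (t j) := fun a ha v hv =>
    ⟨mv_inv (hQt a ha) v hv.1, mv_inv (hQt' a ha) v hv.2⟩
  have hmem : ∀ v ∈ mv ρ (t i), v - ρ (t j) v ∈ mv ρ (t i) ⊓ mv ρ (t j) := by
    intro v hv
    refine ⟨Submodule.sub_mem _ hv (mv_inv (hQt' (t i) (h.mem i)).symm v hv), ?_⟩
    rw [← neg_sub]
    exact Submodule.neg_mem _ (sub_mem_mv ρ (t j) v)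
  rcases irrQ h i inf_le_left hinv with h1 | h1
  · intro v hv
    have h2 := hmem v hv
    rw [h1, Submodule.mem_bot, sub_eq_zero] at h2
    exact h2.symm
  · -- `U_i = U_j`
    exfalso
    have h2 : mv ρ (t i) = mv ρ (t j) := by
      apply Submodule.eq_of_le_of_finrank_eq
      · rw [← h1]
        exact inf_le_right
      · rw [h.dim i, h.dim j]
    have hne : mv ρ (t i) ≠ ⊥ := by
      intro h3
      have h4 := h.dim i
      rw [h3, finrank_bot] at h4
      omega
    -- `Q j` acts by scalars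
    have h3 : ∀ a ∈ Q j, ∃ c : k, ∀ v ∈ mv ρ (t i), ρ a v = c • v := by
      intro a ha
      have hainv : ∀ v ∈ mv ρ (t i), ρ a v ∈ mv ρ (t i) := by
        rw [h2]
        exact mv_inv (h.QK j ha).1
      have hnt : Nontrivial ↥(mv ρ (t i)) := (Submodule.nontrivial_iff_ne_bot).2 hne
      obtain ⟨c, hc⟩ := Module.End.exists_eigenvalue ((ρ a).restrict hainv)
      obtain ⟨v, hv⟩ := hc.exists_hasEigenvector
      have hv1 : ρ a (v : V) = c • (v : V) := congrArg Subtype.val hv.apply_eq_smul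
      have hv0 : (v : V) ≠ 0 := fun h => hv.2 (Subtype.ext h)
      refine ⟨c, ?_⟩
      have h5 := irrQ h i (W := mv ρ (t i) ⊓ LinearMap.ker (ρ a - c • LinearMap.id)) inf_le_left (by
        rintro x hx w ⟨hw1, hw2⟩
        refine ⟨mv_inv (hQt x hx) w hw1, ?_⟩
        rw [SetLike.mem_coe, LinearMap.mem_ker, LinearMap.sub_apply, sub_eq_zero] at hw2 ⊢
        rw [← rho_mul, ← h.comm i j hij x hx a ha, rho_mul, hw2]
        simp)
      have hmem : (v : V) ∈ mv ρ (t i) ⊓ LinearMap.ker (ρ a - c • LinearMap.id) := by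
        refine ⟨v.2, ?_⟩
        rw [SetLike.mem_coe, LinearMap.mem_ker, LinearMap.sub_apply, sub_eq_zero, hv1]
        simp
      rcases h5 with h5 | h5
      · rw [h5] at hmem
        exact absurd ((Submodule.mem_bot k).1 hmem) hv0
      · intro w hw
        rw [← h5] at hw
        have h6 := hw.2
        rw [SetLike.mem_coe, LinearMap.mem_ker, LinearMap.sub_apply, sub_eq_zero] at h6
        rw [h6]
        simp
    rw [h2] at h3 hne
    exact hne (eq_bot_of_one h.two (h.isQ j) (h.mem j) (h.ord j) le_rfl h3)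

theorem fix_V0 (h : Fr ρ S t Q V0) (j : ι) : ∀ v ∈ V0, ρ (t j) v = v := fun v hv => (h.V0_eq v).1 hv j

/-- the dimension of a sum of `U_i`'s and a subspace of `V0` -/
theorem finrank_sup [IsAlgClosed k] (h : Fr ρ S t Q V0) {W : Submodule k V} (hW : W ≤ V0) (s : Finset ι) :
    Module.finrank k ↥((⨆ i ∈ s, mv ρ (t i)) ⊔ W) = 2 * s.card + Module.finrank k W := by
  classical
  induction s using Finset.induction_on with
  | empty =>
    have h1 : (⨆ i ∈ (∅ : Finset ι), mv ρ (t i)) = ⊥ := by simp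
    rw [h1, bot_sup_eq, Finset.card_empty, mul_zero, zero_add]
  | insert j s hj ih =>
    rw [Finset.iSup_insert, sup_assoc, Finset.card_insert_of_notMem hj]
    set X := (⨆ i ∈ s, mv ρ (t i)) ⊔ W with hX
    have hfix : X ≤ LinearMap.ker (ρ (t j) - 1) := by
      refine sup_le (iSup₂_le fun i hi => ?_) ?_
      · intro v hv
        rw [LinearMap.mem_ker, LinearMap.sub_apply, Module.End.one_apply, sub_eq_zero]
        exact fix_of_ne h (i := i) (j := j) (by rintro rfl; exact hj hi) v hv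
      · intro v hv
        rw [LinearMap.mem_ker, LinearMap.sub_apply, Module.End.one_apply, sub_eq_zero]
        exact fix_V0 h j v (hW hv)
    have hinf : mv ρ (t j) ⊓ X = ⊥ := by
      rw [eq_bot_iff]
      rintro v ⟨hv1, hv2⟩
      have e1 := (mem_mv h.two (tt h j)).1 hv1
      have e2 := hfix hv2
      rw [LinearMap.mem_ker, LinearMap.sub_apply, Module.End.one_apply, sub_eq_zero] at e2
      rw [e2] at e1
      have e3 : (2 : k) • v = 0 := by
        rw [two_smul]
        nth_rewrite 2 [e1]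
        exact add_neg_cancel v
      exact (smul_eq_zero.1 e3).resolve_left h.two
    have h1 := Submodule.finrank_sup_add_finrank_inf_eq (mv ρ (t j)) X
    rw [hinf, finrank_bot, h.dim j, ih] at h1
    omega

end Frame

end Cfsg.Agent.H272.Hall
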