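import Cfsg.Agent.H125.Hall.Defs

/-!
# S2223, C2: linear algebra (helper272)

* `cv ρ L` : the fixed points of `L`; `exists_dec`, `disj` : `V = [V, L] ⊕ C_V(L)`;
* `schur` : elements centralising `L` act as scalars on `[V, L]`, if `L` is irreducible on it;
* `comm_of_scalar` : the condition `(hc)` of T5.
-/

set_option autoImplicit false
set_option linter.unusedSectionVars false

namespace Cfsg.Agent.H272.Hall

open Subgroup Cfsg.Agent.Cit Cfsg.Agent.H125.Hall

variable {k : Type*} [Field k] {V : Type*} [AddCommGroup V] [Module k V] {A : Type*} [Group A]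

/-- `C_V(L)` -/
def cv (ρ : A →* (V →ₗ[k] V)) (L : Subgroup A) : Submodule k V where
  carrier := {v | ∀ x ∈ L, ρ x v = v}
  add_mem' := fun {v w} hv hw x hx => by rw [map_add, hv x hx, hw x hx]
  zero_mem' := fun x _ => map_zero _
  smul_mem' := fun c v hv x hx => by rw [map_smul, hv x hx]

variable {ρ : A →* (V →ₗ[k] V)} {L : Subgroup A}

theorem mem_cv {v : V} : v ∈ cv ρ L ↔ ∀ x ∈ L, ρ x v = v := Iff.rfl

theorem rho_mul (ρ : A →* (V →ₗ[k] V)) (x y : A) (v : V) : ρ (x * y) v = ρ x (ρ y v) := by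
  rw [map_mul, Module.End.mul_apply]

theorem rho_one (ρ : A →* (V →ₗ[k] V)) (v : V) : ρ 1 v = v := by
  rw [map_one, Module.End.one_apply]

theorem rho_inv (ρ : A →* (V →ₗ[k] V)) (x : A) (v : V) : ρ x⁻¹ (ρ x v) = v := by
  rw [← rho_mul, inv_mul_cancel, rho_one]

theorem rho_inv' (ρ : A →* (V →ₗ[k] V)) (x : A) (v : V) : ρ x (ρ x⁻¹ v) = v := by
  rw [← rho_mul, mul_inv_cancel, rho_one]

theorem sub_mem_mv (ρ : A →* (V →ₗ[k] V)) (x : A) (v : V) : ρ x v - v ∈ mv ρ x := ⟨v, by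
  rw [LinearMap.sub_apply, Module.End.one_apply]⟩

theorem mv_le {x : A} (hx : x ∈ L) : mv ρ x ≤ cm ρ L := le_iSup₂_of_le x hx le_rfl

theorem sub_mem_cm {x : A} (hx : x ∈ L) (v : V) : ρ x v - v ∈ cm ρ L := mv_le hx (sub_mem_mv ρ x v)

/-- elements normalising `L`, in a finite group -/
theorem norm_inv [Finite A] {c : A} (h : ∀ x ∈ L, c * x * c⁻¹ ∈ L) : ∀ x ∈ L, c⁻¹ * x * c ∈ L := by
  have hmap : L.map (MulAut.conj c).toMonoidHom = L := by
    refine Subgroup.eq_of_le_of_card_ge ?_ ?_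
    · rintro _ ⟨b, hb, rfl⟩
      exact h b hb
    · exact (Nat.card_congr (L.equivMapOfInjective (MulAut.conj c).toMonoidHom (MulAut.conj c).injective).toEquiv).le
  intro x hx
  rw [← hmap] at hx
  obtain ⟨y, hy, rfl⟩ := hx
  have : c⁻¹ * ((MulAut.conj c).toMonoidHom y) * c = y := by
    show c⁻¹ * (c * y * c⁻¹) * c = y
    group
  rw [this]
  exact hy

theorem cm_inv {c : A} (h : ∀ x ∈ L, c * x * c⁻¹ ∈ L) : ∀ v ∈ cm ρ L, ρ c v ∈ cm ρ L := by
  have h1 : cm ρ L ≤ (cm ρ L).comap (ρ c) := by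
    refine iSup₂_le fun x hx => ?_
    rintro _ ⟨v, rfl⟩
    show ρ c ((ρ x - 1) v) ∈ cm ρ L
    have h2 : ρ c ((ρ x - 1) v) = ρ (c * x * c⁻¹) (ρ c v) - ρ c v := by
      rw [LinearMap.sub_apply, Module.End.one_apply, map_sub, ← rho_mul, ← rho_mul, inv_mul_cancel_right]
    rw [h2]
    exact sub_mem_cm (h x hx) _
  exact fun v hv => h1 hv

theorem cm_inv_self {c : A} (h : c ∈ L) : ∀ v ∈ cm ρ L, ρ c v ∈ cm ρ L :=
  cm_inv fun _ hx => mul_mem (mul_mem h hx) (inv_mem h)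

theorem cv_inv [Finite A] {c : A} (h : ∀ x ∈ L, c * x * c⁻¹ ∈ L) : ∀ v ∈ cv ρ L, ρ c v ∈ cv ρ L := by
  intro v hv x hx
  have h1 := hv _ (norm_inv h x hx)
  calc ρ x (ρ c v) = ρ c (ρ (c⁻¹ * x * c) v) := by
        rw [← rho_mul, ← rho_mul]
        congr 2
        group
    _ = ρ c v := by rw [h1]

section Avg

variable [Finite A]

theorem card_ne (hc : (Nat.card A : k) ≠ 0) (L : Subgroup A) : (Nat.card L : k) ≠ 0 := by
  intro h
  apply hc
  rw [← L.card_mul_index, Nat.cast_mul, h, zero_mul]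

/-- the sum of the elements of `L` -/
noncomputable def av (ρ : A →* (V →ₗ[k] V)) (L : Subgroup A) : V →ₗ[k] V := by
  classical
  let _ := Fintype.ofFinite L
  exact ∑ x : L, ρ x

theorem av_apply [Fintype L] (v : V) : av ρ L v = ∑ x : L, ρ x v := by
  unfold av
  rw [LinearMap.sum_apply]
  congr!

theorem av_of_cm {v : V} (hv : v ∈ cm ρ L) : av ρ L v = 0 := by
  classical
  let _ := Fintype.ofFinite L
  have h1 : cm ρ L ≤ LinearMap.ker (av ρ L) := by
    refine iSup₂_le fun x hx => ?_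
    rintro _ ⟨v, rfl⟩
    rw [LinearMap.mem_ker, LinearMap.sub_apply, Module.End.one_apply, map_sub, av_apply, av_apply, sub_eq_zero]
    exact Fintype.sum_bijective (fun y : L => y * ⟨x, hx⟩) (Group.mulRight_bijective _) _ _ (fun y => by
      rw [Subgroup.coe_mul, rho_mul])
  exact h1 hv

theorem av_of_cv {v : V} (hv : v ∈ cv ρ L) : av ρ L v = (Nat.card L : k) • v := by
  classical
  let _ := Fintype.ofFinite L
  rw [av_apply, Finset.sum_congr rfl (fun (x : L) _ => hv x x.2), Finset.sum_const, Finset.card_univ, Nat.card_eq_fintype_card,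
    Nat.cast_smul_eq_nsmul]

theorem av_mem (v : V) : av ρ L v ∈ cv ρ L := by
  classical
  let _ := Fintype.ofFinite L
  intro x hx
  rw [av_apply, map_sum]
  exact Fintype.sum_bijective (fun y : L => ⟨x, hx⟩ * y) (Group.mulLeft_bijective _) _ _ (fun y => by
    rw [Subgroup.coe_mul, rho_mul])

theorem disj (hc : (Nat.card A : k) ≠ 0) {v : V} (h1 : v ∈ cm ρ L) (h2 : v ∈ cv ρ L) : v = 0 := by
  have h3 := av_of_cm h1
  rw [av_of_cv h2] at h3
  exact (smul_eq_zero.1 h3).resolve_left (card_ne hc L)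

theorem exists_dec (hc : (Nat.card A : k) ≠ 0) (L : Subgroup A) (v : V) : ∃ θ ∈ cm ρ L, ∃ w ∈ cv ρ L, v = θ + w := by
  classical
  let _ := Fintype.ofFinite L
  have hL := card_ne hc L
  refine ⟨v - (Nat.card L : k)⁻¹ • av ρ L v, ?_, (Nat.card L : k)⁻¹ • av ρ L v, Submodule.smul_mem _ _ (av_mem v),
    (sub_add_cancel _ _).symm⟩
  have h1 : v - (Nat.card L : k)⁻¹ • av ρ L v = -((Nat.card L : k)⁻¹ • ∑ x : L, (ρ x v - v)) := by
    rw [Finset.sum_sub_distrib, ← av_apply, Finset.sum_const, Finset.card_univ, ← Nat.card_eq_fintype_card,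
      ← Nat.cast_smul_eq_nsmul k, smul_sub, smul_smul, inv_mul_cancel₀ hL, one_smul, neg_sub]
  rw [h1]
  exact Submodule.neg_mem _ (Submodule.smul_mem _ _ (Submodule.sum_mem _ fun x _ => sub_mem_cm x.2 v))

/-- Schur's lemma -/
theorem schur [IsAlgClosed k] [FiniteDimensional k V]
    (hirr : ∀ W : Submodule k V, W ≤ cm ρ L → (∀ x ∈ L, ∀ v ∈ W, ρ x v ∈ W) → W = ⊥ ∨ W = cm ρ L)
    (hne : cm ρ L ≠ ⊥) {a : A} (ha : ∀ x ∈ L, a * x = x * a) : ∃ c : k, ∀ v ∈ cm ρ L, ρ a v = c • v := by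
  have hinv : ∀ v ∈ cm ρ L, ρ a v ∈ cm ρ L := cm_inv fun x hx => by
    rw [ha x hx, mul_inv_cancel_right]
    exact hx
  have hnt : Nontrivial ↥(cm ρ L) := (Submodule.nontrivial_iff_ne_bot).2 hne
  obtain ⟨c, hc⟩ := Module.End.exists_eigenvalue ((ρ a).restrict hinv)
  obtain ⟨v, hv⟩ := hc.exists_hasEigenvector
  have hv1 : ρ a (v : V) = c • (v : V) := congrArg Subtype.val hv.apply_eq_smul
  have hv0 : (v : V) ≠ 0 := fun h => hv.2 (Subtype.ext h)
  refine ⟨c, ?_⟩
  have h1 := hirr (cm ρ L ⊓ LinearMap.ker (ρ a - c • LinearMap.id)) inf_le_left (by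
    rintro x hx w ⟨hw1, hw2⟩
    refine ⟨cm_inv_self hx w hw1, ?_⟩
    rw [SetLike.mem_coe, LinearMap.mem_ker, LinearMap.sub_apply, sub_eq_zero] at hw2 ⊢
    rw [← rho_mul, ha x hx, rho_mul, hw2]
    simp)
  have hmem : (v : V) ∈ cm ρ L ⊓ LinearMap.ker (ρ a - c • LinearMap.id) := by
    refine ⟨v.2, ?_⟩
    rw [SetLike.mem_coe, LinearMap.mem_ker, LinearMap.sub_apply, sub_eq_zero, hv1]
    simp
  rcases h1 with h1 | h1
  · rw [h1] at hmem
    exact absurd ((Submodule.mem_bot k).1 hmem) hv0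
  · intro w hw
    rw [← h1] at hw
    have h2 := hw.2
    rw [SetLike.mem_coe, LinearMap.mem_ker, LinearMap.sub_apply, sub_eq_zero] at h2
    rw [h2]
    simp

end Avg

section Invol

theorem mem_mv (h2 : (2 : k) ≠ 0) {t : A} (ht : t * t = 1) {v : V} : v ∈ mv ρ t ↔ ρ t v = -v := by
  constructor
  · rintro ⟨w, rfl⟩
    rw [LinearMap.sub_apply, Module.End.one_apply, map_sub, ← rho_mul, ht, rho_one, neg_sub]
  · intro h
    refine ⟨(-(2 : k)⁻¹) • v, ?_⟩
    rw [LinearMap.sub_apply, Module.End.one_apply, map_smul, h, smul_neg, neg_smul, neg_neg, sub_neg_eq_add, ← add_smul]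
    have : (2 : k)⁻¹ + 2⁻¹ = 1 := by
      rw [← two_mul, mul_inv_cancel₀ h2]
    rw [this, one_smul]

theorem mv_conj (g t : A) : mv ρ (g * t * g⁻¹) = (mv ρ t).map (ρ g) := by
  apply le_antisymm
  · rintro _ ⟨v, rfl⟩
    refine ⟨(ρ t - 1) (ρ g⁻¹ v), ⟨_, rfl⟩, ?_⟩
    rw [LinearMap.sub_apply, LinearMap.sub_apply, Module.End.one_apply, Module.End.one_apply, map_sub, rho_inv',
      ← rho_mul, ← rho_mul]
  · rintro _ ⟨_, ⟨v, rfl⟩, rfl⟩
    refine ⟨ρ g v, ?_⟩
    rw [LinearMap.sub_apply, LinearMap.sub_apply, Module.End.one_apply, Module.End.one_apply, map_sub,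
      ← rho_mul, ← rho_mul, inv_mul_cancel_right]

theorem rho_injective (ρ : A →* (V →ₗ[k] V)) (g : A) : Function.Injective (ρ g) := by
  intro v w h
  rw [← rho_inv ρ g v, h, rho_inv]

theorem finrank_map (ρ : A →* (V →ₗ[k] V)) (g : A) (W : Submodule k V) :
    Module.finrank k (W.map (ρ g)) = Module.finrank k W :=
  (LinearEquiv.finrank_eq (Submodule.equivMapOfInjective (ρ g) (rho_injective ρ g) W)).symm

variable [Finite A] [IsAlgClosed k] [FiniteDimensional k V]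

/-- `t` is trivial on `C_V(L)` -/
theorem triv_cv (hc : (Nat.card A : k) ≠ 0) {t : A} (ht : mv ρ t ≤ cm ρ L) (hn : ∀ x ∈ L, t * x * t⁻¹ ∈ L) {w : V}
    (hw : w ∈ cv ρ L) : ρ t w = w := by
  have h1 := cv_inv hn w hw
  have h2 : ρ t w - w ∈ cm ρ L := ht (sub_mem_mv ρ t w)
  exact sub_eq_zero.1 (disj hc h2 (Submodule.sub_mem _ h1 hw))

/-- the condition `(hc)` of T5 -/
theorem comm_of_scalar (hinj : Function.Injective ρ) (h2 : (2 : k) ≠ 0) (hc : (Nat.card A : k) ≠ 0)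
    (hirr : ∀ W : Submodule k V, W ≤ cm ρ L → (∀ x ∈ L, ∀ v ∈ W, ρ x v ∈ W) → W = ⊥ ∨ W = cm ρ L)
    (h3 : 3 ≤ Module.finrank k (cm ρ L)) (h4 : Module.finrank k (cm ρ L) ≠ 4) {t : A} (ht : t * t = 1)
    (hd : Module.finrank k (mv ρ t) = 2) (htL : mv ρ t ≤ cm ρ L) (hn : ∀ x ∈ L, t * x * t⁻¹ ∈ L) {g : A}
    (hg : ∀ x ∈ L, g * x * g⁻¹ ∈ L) (hu : ∀ x ∈ L, (g * t * g⁻¹ * t⁻¹) * x = x * (g * t * g⁻¹ * t⁻¹)) :
    g * t = t * g := by
  have hne : cm ρ L ≠ ⊥ := by
    intro h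
    rw [h, finrank_bot] at h3
    omega
  obtain ⟨c, hcs⟩ := schur hirr hne hu
  set u := g * t * g⁻¹ * t⁻¹ with hudef
  have htt : t⁻¹ = t := inv_eq_of_mul_eq_one_left ht
  have hgt : g * t * g⁻¹ = u * t := by rw [hudef, inv_mul_cancel_right]
  have hgt2 : (g * t * g⁻¹) * (g * t * g⁻¹) = 1 := by
    calc (g * t * g⁻¹) * (g * t * g⁻¹) = g * (t * t) * g⁻¹ := by group
      _ = 1 := by rw [ht]; group
  -- the fixed points of `t` on `Θ`
  set E : Submodule k V := cm ρ L ⊓ LinearMap.ker (ρ t - 1) with hE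
  have memE : ∀ v, v ∈ E ↔ v ∈ cm ρ L ∧ ρ t v = v := by
    intro v
    rw [hE, Submodule.mem_inf, LinearMap.mem_ker, LinearMap.sub_apply, Module.End.one_apply, sub_eq_zero]
  have hsup : mv ρ t ⊔ E = cm ρ L := by
    apply le_antisymm (sup_le htL inf_le_left)
    intro v hv
    have e1 : v = (2 : k)⁻¹ • (v - ρ t v) + (2 : k)⁻¹ • (v + ρ t v) := by
      rw [← smul_add, sub_add_add_cancel, ← two_smul k, smul_smul, inv_mul_cancel₀ h2, one_smul]
    rw [e1]
    apply Submodule.add_mem_sup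
    · apply Submodule.smul_mem
      rw [mem_mv h2 ht, map_sub, ← rho_mul, ht, rho_one, neg_sub]
    · apply Submodule.smul_mem
      rw [memE]
      refine ⟨Submodule.add_mem _ hv (cm_inv hn v hv), ?_⟩
      rw [map_add, ← rho_mul, ht, rho_one, add_comm]
  have hinf : mv ρ t ⊓ E = ⊥ := by
    rw [eq_bot_iff]
    rintro v ⟨hv1, hv2⟩
    have e1 := (mem_mv h2 ht).1 hv1
    have e2 := ((memE v).1 hv2).2
    rw [e2] at e1
    have e3 : (2 : k) • v = 0 := by
      rw [two_smul]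
      nth_rewrite 2 [e1]
      exact add_neg_cancel v
    exact (smul_eq_zero.1 e3).resolve_left h2
  have hdim : Module.finrank k E + 2 = Module.finrank k (cm ρ L) := by
    have h5 := Submodule.finrank_sup_add_finrank_inf_eq (mv ρ t) E
    rw [hsup, hinf, finrank_bot, hd] at h5
    omega
  -- `c = 1`
  have hc1 : c = 1 := by
    have hEne : E ≠ ⊥ := by
      intro h
      rw [h, finrank_bot] at hdim
      omega
    obtain ⟨v, hv, hv0⟩ := Submodule.exists_mem_ne_zero_of_ne_bot hEne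
    have hvE := (memE v).1 hv
    have e1 : ∀ w ∈ cm ρ L, ρ (g * t * g⁻¹) w = c • ρ t w := by
      intro w hw
      rw [hgt, rho_mul]
      exact hcs _ (cm_inv hn w hw)
    have e2 : c * c = 1 := by
      have e3 : ρ (g * t * g⁻¹) v = c • v := by rw [e1 v hvE.1, hvE.2]
      have e4 : (c * c) • v = v := by
        rw [← smul_smul, ← e3, ← map_smul, ← e3, ← rho_mul, hgt2, rho_one]
      have e5 : (c * c - 1) • v = 0 := by rw [sub_smul, e4, one_smul, sub_self]
      exact sub_eq_zero.1 ((smul_eq_zero.1 e5).resolve_right hv0)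
    rcases mul_self_eq_one_iff.1 e2 with h5 | h5
    · exact h5
    · exfalso
      have e3 : mv ρ (g * t * g⁻¹) = E := by
        apply le_antisymm
        · intro w hw
          have hwL : w ∈ cm ρ L := by
            rw [mv_conj] at hw
            obtain ⟨w', hw', rfl⟩ := hw
            exact cm_inv hg w' (htL hw')
          rw [memE]
          refine ⟨hwL, ?_⟩
          have e4 := (mem_mv h2 hgt2).1 hw
          rw [e1 w hwL, h5, neg_one_smul, neg_inj] at e4
          exact e4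
        · intro w hw
          have hwE := (memE w).1 hw
          rw [mem_mv h2 hgt2, e1 w hwE.1, hwE.2, h5, neg_one_smul]
      have e4 : Module.finrank k (mv ρ (g * t * g⁻¹)) = 2 := by rw [mv_conj, finrank_map, hd]
      rw [e3] at e4
      omega
  -- `u = 1`
  have hu1 : u = 1 := by
    apply hinj
    apply LinearMap.ext
    intro v
    obtain ⟨θ, hθ, w, hw, rfl⟩ := exists_dec hc L v
    rw [map_one, Module.End.one_apply, map_add, hcs θ hθ, hc1, one_smul]
    congr 1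
    have e1 : ρ t⁻¹ w = w := by
      rw [htt]
      exact triv_cv hc htL hn hw
    rw [hudef, rho_mul, e1, rho_mul, rho_mul]
    have e2 : ρ g⁻¹ w ∈ cv ρ L := by
      apply cv_inv _ w hw
      intro x hx
      rw [inv_inv]
      exact norm_inv hg x hx
    rw [triv_cv hc htL hn e2, rho_inv']
  have h5 : g * t * g⁻¹ = t := by rw [hgt, hu1, one_mul]
  calc g * t = (g * t * g⁻¹) * g := by group
    _ = t * g := by rw [h5]

end Invol

end Cfsg.Agent.H272.Hall
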